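import Groth.Agent.FinOrbitLib.Orbit
import Groth.Agent.DiagRepLib.Scheme
import Groth.Prelude.Def_CoactBr

/-!
# Inertia of points under a finite locally free group
-/

set_option autoImplicit false
set_option linter.style.haveILetI false
set_option maxHeartbeats 1000000
set_option synthInstance.maxHeartbeats 100000
set_option backward.isDefEq.respectTransparency false

universe u

open CategoryTheory CategoryTheory.Limits MonoidalCategory CartesianMonoidalCategory AlgebraicGeometry CoactBr
open scoped MonObj TensorProduct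

noncomputable section

namespace Groth.Agent.FinOrbit

attribute [-instance] CategoryTheory.Hom.commGroup
attribute [local instance] CoactBr.braidedAlgSpecOf

variable {R A B : Type u} [CommRing R] [CommRing A] [HopfAlgebra R A] [CommRing B] [Algebra R B]
  [HopfRep.Comod R A B] [GLin.IsCoactAlg R A B]

/-- The inertia of a point is trivial. -/
def Triv {K : Type u} [CommRing K] [Algebra R K] (x : B →ₐ[R] K) : Prop :=
  ∀ (T : Over (Spec (CommRingCat.of R))) (h : T ⟶ sp R K) (g : T ⟶ sp R A),
    lift g (h ≫ pt x) ≫ (action R A B).act = h ≫ pt x → g = 1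

theorem Triv.comp {K L : Type u} [CommRing K] [CommRing L] [Algebra R K] [Algebra R L] {x : B →ₐ[R] K}
    (hx : Triv (A := A) x) (i : K →ₐ[R] L) : Triv (A := A) (i.comp x) := fun T h g hg =>
  hx T (h ≫ pt i) g (by rw [Category.assoc, ← pt_comp]; exact hg)

/-- Triviality of inertia descends along field extensions. -/
theorem triv_of_comp {K L : Type u} [Field K] [Field L] [Algebra R K] [Algebra R L] {x : B →ₐ[R] K} (i : K →ₐ[R] L)
    (hx : Triv (A := A) (i.comp x)) : Triv (A := A) x := by
  intro T h g hg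
  let p := pullback.fst h.left (pt i).left
  haveI : Flat (pt i).left := by
    show Flat (Spec.map (CommRingCat.ofHom i.toRingHom))
    rw [HasRingHomProperty.Spec_iff (P := @Flat)]
    letI := i.toRingHom.toAlgebra
    exact RingHom.flat_algebraMap_iff.2 (inferInstance : Module.Flat K L)
  haveI : Surjective (pt i).left := ⟨fun a => by
    haveI : Subsingleton ↥(sp R K).left := inferInstanceAs (Subsingleton (PrimeSpectrum K))
    exact ⟨IsLocalRing.closedPoint L, Subsingleton.elim _ _⟩⟩
  haveI : Flat p := MorphismProperty.pullback_fst _ _ inferInstance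
  haveI : Surjective p := MorphismProperty.pullback_fst _ _ inferInstance
  haveI : Epi p := Flat.epi_of_flat_of_surjective p
  let T' : Over (Spec (CommRingCat.of R)) := Over.mk (p ≫ T.hom)
  let q : T' ⟶ T := Over.homMk p rfl
  let h' : T' ⟶ sp R L := Over.homMk (pullback.snd h.left (pt i).left) (by
    show pullback.snd h.left (pt i).left ≫ (sp R L).hom = p ≫ T.hom
    rw [← Over.w (pt i), ← pullback.condition_assoc]
    exact congrArg (p ≫ ·) (Over.w h))
  have hh : h' ≫ pt i = q ≫ h := Over.OverMorphism.ext pullback.condition.symm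
  have h1 := hx T' h' (q ≫ g) (by
    rw [pt_comp, reassoc_of% hh, ← comp_lift_assoc, hg])
  rw [← MonObj.comp_one q] at h1
  refine Over.OverMorphism.ext ((cancel_epi p).1 ?_)
  exact congrArg CommaMorphism.left h1

/-- A point in the orbit has conjugate inertia. -/
theorem fix_iff {T : Over (Spec (CommRingCat.of R))} (x₁ x₂ : T ⟶ sp R B) (g k : T ⟶ sp R A)
    (hx : x₁ = lift g x₂ ≫ (action R A B).act) :
    lift k x₁ ≫ (action R A B).act = x₁ ↔ lift (g⁻¹ * k * g) x₂ ≫ (action R A B).act = x₂ := by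
  subst hx
  simp only [lift_action_act, lift_ract_ract]
  constructor
  · intro h
    have h' := congrArg (fun y => lift y g ≫ ract R A B) h
    simp only [lift_ract_ract, inv_mul_cancel, lift_one_ract] at h'
    simpa [mul_inv_rev, _root_.mul_assoc] using h'
  · intro h
    have h' := congrArg (fun y => lift y g⁻¹ ≫ ract R A B) h
    simp only [lift_ract_ract] at h'
    simpa [mul_inv_rev, _root_.mul_assoc] using h'

/-- Points with the same invariants, read in the group of points. -/
theorem exists_act [Module.Finite R A] [Module.Projective R A] {K : Type u} [Field K] [IsAlgClosed K] [Algebra R K]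
    (x₁ x₂ : B →ₐ[R] K) (h : ∀ c ∈ GLin.invariants R A B, x₁ c = x₂ c) :
    ∃ g : sp R K ⟶ sp R A, pt x₁ = lift g (pt x₂) ≫ (action R A B).act := by
  obtain ⟨gam, hgam⟩ := exists_translate K x₂ x₁ fun c hc => (h c hc).symm
  refine ⟨(pt gam)⁻¹, ?_⟩
  rw [lift_action_act, inv_inv, lift_pt_ract, ← hgam]

/-- Translates of a point with trivial inertia have trivial inertia. -/
theorem Triv.act {K : Type u} [CommRing K] [Algebra R K] {x₁ x₂ : B →ₐ[R] K} (hx : Triv (A := A) x₁)
    (g : sp R K ⟶ sp R A) (hg : pt x₁ = lift g (pt x₂) ≫ (action R A B).act) : Triv (A := A) x₂ := by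
  intro T h k hk
  have h1 := hx T h ((h ≫ g) * k * (h ≫ g)⁻¹) ((fix_iff _ (h ≫ pt x₂) (h ≫ g) _ (by
    rw [hg, comp_lift_assoc])).2 (by
    rwa [show (h ≫ g)⁻¹ * ((h ≫ g) * k * (h ≫ g)⁻¹) * (h ≫ g) = k by group]))
  rwa [mul_inv_eq_one, mul_eq_left] at h1

/-- Triviality of inertia only depends on the invariants. -/
theorem triv_of_same [Module.Finite R A] [Module.Projective R A] {K₁ K₂ L : Type u} [Field K₁] [Field K₂] [Field L]
    [IsAlgClosed L] [Algebra R K₁] [Algebra R K₂] [Algebra R L] {x₁ : B →ₐ[R] K₁} {x₂ : B →ₐ[R] K₂}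
    (i₁ : K₁ →ₐ[R] L) (i₂ : K₂ →ₐ[R] L) (h : ∀ c ∈ GLin.invariants R A B, i₁ (x₁ c) = i₂ (x₂ c))
    (hx : Triv (A := A) x₁) : Triv (A := A) x₂ := by
  obtain ⟨g, hg⟩ := exists_act (i₁.comp x₁) (i₂.comp x₂) h
  exact triv_of_comp i₂ ((hx.comp i₁).act g hg)

section Free

/-- The ideal of the fixed locus. -/
def fixIdeal : Ideal (B ⊗[R] A) :=
  Ideal.span (Set.range fun b : B => GLin.coactAlgHom R A B b - b ⊗ₜ[R] (1 : A))

theorem eq_fixIdeal_le {S : Type u} [CommRing S] [Algebra R S] (ξ : B →ₐ[R] S) (gam : A →ₐ[R] S)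
    (h : (Algebra.TensorProduct.lift ξ gam fun _ _ => .all _ _).comp (GLin.coactAlgHom R A B) = ξ) :
    fixIdeal ≤ RingHom.ker (Algebra.TensorProduct.lift ξ gam fun _ _ => .all _ _) := by
  refine Ideal.span_le.2 ?_
  rintro _ ⟨b, rfl⟩
  show Algebra.TensorProduct.lift ξ gam (fun _ _ => Commute.all _ _) (GLin.coactAlgHom R A B b - b ⊗ₜ[R] (1 : A)) = 0
  rw [map_sub, Algebra.TensorProduct.lift_tmul, map_one, mul_one, sub_eq_zero]
  exact DFunLike.congr_fun h b

/-- The coordinates of the stabiliser, modulo the unit section. -/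
abbrev defect (R A B : Type u) [CommRing R] [CommRing A] [HopfAlgebra R A] [CommRing B] [Algebra R B]
    [HopfRep.Comod R A B] [GLin.IsCoactAlg R A B] : Submodule B (B ⊗[R] A) :=
  (fixIdeal (R := R) (A := A) (B := B)).restrictScalars B ⊔ Submodule.span B {(1 : B ⊗[R] A)}

/-- Evaluation at the unit section. -/
def evUnit : B ⊗[R] A →ₐ[B] B :=
  Algebra.TensorProduct.lift (AlgHom.id B B) ((Algebra.ofId R B).comp (Bialgebra.counitAlgHom R A))
    fun _ _ => .all _ _

theorem evUnit_tmul_aux (b : B) (a : A) :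
    evUnit (b ⊗ₜ[R] a) = b * algebraMap R B (CoalgebraStruct.counit (R := R) a) := by
  show Algebra.TensorProduct.lift (AlgHom.id B B) ((Algebra.ofId R B).comp (Bialgebra.counitAlgHom R A))
    (fun _ _ => Commute.all _ _) (b ⊗ₜ[R] a) = _
  rw [Algebra.TensorProduct.lift_tmul]
  rfl

theorem evUnit_coact (b : B) : evUnit (GLin.coactAlgHom R A B b) = b := by
  have hu := LinearMap.congr_fun (HopfRep.Comod.counit_comp (k := R) (A := A) (V := B)) b
  simp only [LinearMap.comp_apply] at hu
  let q : B ⊗[R] R →ₐ[R] B := Algebra.TensorProduct.lift (AlgHom.id R B) (Algebra.ofId R B) fun _ _ => Commute.all _ _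
  have e1 : ∀ w : B ⊗[R] A, evUnit w = q ((CoalgebraStruct.counit (R := R) (A := A)).lTensor B w) := by
    intro w
    induction w using TensorProduct.induction_on with
    | zero => simp
    | add u v hu hv => simp only [map_add, hu, hv]
    | tmul s a =>
      simp [q, evUnit_tmul_aux]
  rw [e1, GLin.coactAlgHom_apply, hu]
  simp [q]

theorem evUnit_fixIdeal {w : B ⊗[R] A} (hw : w ∈ fixIdeal) : evUnit w = 0 := by
  have : fixIdeal ≤ RingHom.ker (evUnit (R := R) (A := A) (B := B)) := by
    refine Ideal.span_le.2 ?_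
    rintro _ ⟨b, rfl⟩
    show evUnit (GLin.coactAlgHom R A B b - b ⊗ₜ[R] (1 : A)) = 0
    rw [map_sub, evUnit_coact, sub_eq_zero]
    simp [evUnit]
  exact this hw

theorem evUnit_tmul (b : B) (a : A) : evUnit (b ⊗ₜ[R] a) = b * algebraMap R B (Bialgebra.counitAlgHom R A a) := by
  show Algebra.TensorProduct.lift (AlgHom.id B B) ((Algebra.ofId R B).comp (Bialgebra.counitAlgHom R A))
    (fun _ _ => Commute.all _ _) (b ⊗ₜ[R] a) = _
  rw [Algebra.TensorProduct.lift_tmul]
  rfl

/-- An element killing the defect trivialises the fixed points where it is invertible. -/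
theorem gamma_eq {S : Type u} [CommRing S] [Algebra R S] (ξ : B →ₐ[R] S) (gam : A →ₐ[R] S)
    (h : (Algebra.TensorProduct.lift ξ gam fun _ _ => .all _ _).comp (GLin.coactAlgHom R A B) = ξ) (r : B)
    (hr : ∀ a : A, r • ((1 : B) ⊗ₜ[R] a) ∈ defect R A B) (hu : IsUnit (ξ r)) :
    gam = (Algebra.ofId R S).comp (Bialgebra.counitAlgHom R A) := by
  refine AlgHom.ext fun a => ?_
  obtain ⟨w, hw, y, hy, hwy⟩ := Submodule.mem_sup.1 (hr a)
  obtain ⟨b, rfl⟩ := Submodule.mem_span_singleton.1 hy
  have hb : b = r * algebraMap R B (Bialgebra.counitAlgHom R A a) := by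
    have h1 := congrArg evUnit hwy
    rw [map_add, evUnit_fixIdeal hw, zero_add, map_smul, map_one, map_smul, evUnit_tmul, smul_eq_mul, smul_eq_mul,
      mul_one, one_mul] at h1
    exact h1
  let Λ : B ⊗[R] A →ₐ[R] S := Algebra.TensorProduct.lift ξ gam fun _ _ => .all _ _
  have h2 := congrArg Λ hwy
  have hw0 : Λ w = 0 := eq_fixIdeal_le ξ gam h hw
  rw [map_add, hw0, zero_add, TensorProduct.smul_tmul', Algebra.TensorProduct.one_def, TensorProduct.smul_tmul'] at h2
  simp only [Λ, Algebra.TensorProduct.lift_tmul, smul_eq_mul, mul_one, map_one, hb, map_mul, AlgHom.commutes] at h2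
  exact (hu.mul_left_cancel h2.symm).trans rfl

/-- At a point with trivial inertia the defect is not supported. -/
theorem exists_kill [Module.Finite R A] (P : Ideal B) [P.IsPrime]
    (hP : Triv (A := A) (IsScalarTower.toAlgHom R B P.ResidueField)) :
    ∃ r, r ∉ P ∧ ∀ a : A, r • ((1 : B) ⊗ₜ[R] a) ∈ defect R A B := by
  classical
  let κ := P.ResidueField
  let x : B →ₐ[R] κ := IsScalarTower.toAlgHom R B κ
  let D := κ ⊗[R] A
  let m : B ⊗[R] A →ₐ[R] D := Algebra.TensorProduct.map x (AlgHom.id R A)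
  let Iκ : Ideal D := Ideal.span (Set.range fun b => m (GLin.coactAlgHom R A B b - b ⊗ₜ[R] (1 : A)))
  -- the universal fixed point over the residue field
  let h : sp R (D ⧸ Iκ) ⟶ sp R κ := pt ((Ideal.Quotient.mkₐ R Iκ).comp Algebra.TensorProduct.includeLeft)
  let gam : A →ₐ[R] D ⧸ Iκ := (Ideal.Quotient.mkₐ R Iκ).comp Algebra.TensorProduct.includeRight
  have hfix : lift (pt gam)⁻¹ (h ≫ pt x) ≫ (action R A B).act = h ≫ pt x := by
    rw [lift_action_act, inv_inv, ← pt_comp, lift_pt_ract]
    congr 1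
    refine AlgHom.ext fun b => ?_
    have h0 : Ideal.Quotient.mkₐ R Iκ (m (GLin.coactAlgHom R A B b - b ⊗ₜ[R] (1 : A))) = 0 :=
      Ideal.Quotient.eq_zero_iff_mem.2 (Ideal.subset_span ⟨b, rfl⟩)
    rw [map_sub, map_sub, sub_eq_zero] at h0
    have e : ∀ w : B ⊗[R] A, Algebra.TensorProduct.lift
        (((Ideal.Quotient.mkₐ R Iκ).comp Algebra.TensorProduct.includeLeft).comp x) gam (fun _ _ => Commute.all _ _) w =
        Ideal.Quotient.mkₐ R Iκ (m w) := by
      intro w
      induction w using TensorProduct.induction_on with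
      | zero => simp
      | add u v hu hv => simp only [map_add, hu, hv]
      | tmul s a =>
        simp [m, gam, ← map_mul]
        exact congrArg _ (((Algebra.TensorProduct.tmul_mul_tmul (x s) (1 : κ) (1 : A) a).trans
          (by rw [mul_one, one_mul]; rfl)).trans (Algebra.TensorProduct.map_tmul _ _ _ _).symm)
    rw [AlgHom.comp_apply, e, h0]
    simp [m]
    exact congrArg _ (Algebra.TensorProduct.map_tmul _ _ _ _)
  have htriv := hP _ h _ hfix
  rw [inv_eq_one, one_eq_pt] at htriv
  have hgam := pt_injective htriv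
  -- the defect dies in the residue field
  let Q := (B ⊗[R] A) ⧸ defect R A B
  let π : B ⊗[R] A →ₗ[B] Q := (defect R A B).mkQ
  let θ : D →ₗ[κ] κ ⊗[B] Q :=
    TensorProduct.AlgebraTensorModule.lift (LinearMap.toSpanSingleton κ _
      ((((TensorProduct.mk B κ Q) 1).restrictScalars R).comp
        ((π.restrictScalars R).comp ((TensorProduct.mk R B A) 1))))
  have hθ : ∀ (c : κ) (a : A), θ (c ⊗ₜ[R] a) = c ⊗ₜ[B] π ((1 : B) ⊗ₜ[R] a) := fun c a => by
    show c • ((1 : κ) ⊗ₜ[B] π ((1 : B) ⊗ₜ[R] a)) = _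
    rw [TensorProduct.smul_tmul', smul_eq_mul, mul_one]
  have hθm : ∀ (c : κ) (a : A) (w : B ⊗[R] A),
      θ ((c ⊗ₜ[R] a) * m w) = c ⊗ₜ[B] π (((1 : B) ⊗ₜ[R] a) * w) := by
    intro c a w
    induction w using TensorProduct.induction_on with
    | zero => simp
    | add u v hu hv => simp only [map_add, mul_add, TensorProduct.tmul_add, hu, hv]
    | tmul s a' =>
      rw [show m (s ⊗ₜ[R] a') = x s ⊗ₜ[R] a' from Algebra.TensorProduct.map_tmul _ _ _ _,
        Algebra.TensorProduct.tmul_mul_tmul, hθ, Algebra.TensorProduct.tmul_mul_tmul, one_mul,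
        show (s ⊗ₜ[R] (a * a') : B ⊗[R] A) = s • ((1 : B) ⊗ₜ[R] (a * a')) by
          rw [TensorProduct.smul_tmul', smul_eq_mul, mul_one],
        map_smul, ← TensorProduct.smul_tmul]
      congr 1
      rw [mul_comm, Algebra.smul_def]
      rfl
  have hI : ∀ w ∈ Iκ, θ w = 0 := by
    intro w hw
    induction hw using Submodule.span_induction with
    | mem y hy =>
      obtain ⟨b, rfl⟩ := hy
      have h1 := hθm 1 1 (GLin.coactAlgHom R A B b - b ⊗ₜ[R] (1 : A))
      rw [← Algebra.TensorProduct.one_def, ← Algebra.TensorProduct.one_def, one_mul, one_mul] at h1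
      rw [h1, show π (GLin.coactAlgHom R A B b - b ⊗ₜ[R] (1 : A)) = 0 from
        (Submodule.Quotient.mk_eq_zero _).2 (Submodule.mem_sup_left (Ideal.subset_span ⟨b, rfl⟩)),
        TensorProduct.tmul_zero]
    | zero => simp
    | add u v _ _ hu hv => rw [map_add, hu, hv, add_zero]
    | smul d y hy hy0 =>
      rw [smul_eq_mul]
      induction d using TensorProduct.induction_on with
      | zero => simp
      | add u v hu hv => rw [add_mul, map_add, hu, hv, add_zero]
      | tmul c a =>
        have key : ∀ y ∈ Iκ, ∀ (c : κ) (a : A), θ ((c ⊗ₜ[R] a) * y) = 0 := by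
          intro y hy
          induction hy using Submodule.span_induction with
          | mem y hy =>
            obtain ⟨b, rfl⟩ := hy
            intro c a
            rw [hθm, show π _ = 0 from (Submodule.Quotient.mk_eq_zero _).2 (Submodule.mem_sup_left
              (Ideal.mul_mem_left _ _ (Ideal.subset_span ⟨b, rfl⟩))), TensorProduct.tmul_zero]
          | zero => simp
          | add u v _ _ hu hv => intro c a; rw [mul_add, map_add, hu, hv, add_zero]
          | smul e y _ hy =>
            intro c a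
            rw [smul_eq_mul, ← _root_.mul_assoc]
            generalize (c ⊗ₜ[R] a) * e = d
            induction d using TensorProduct.induction_on with
            | zero => simp
            | add u v hu hv => rw [add_mul, map_add, hu, hv, add_zero]
            | tmul c' a' => exact hy c' a'
        exact key y hy c a
  have hsub : Subsingleton (κ ⊗[B] Q) := by
    refine subsingleton_of_forall_eq 0 fun z => ?_
    induction z using TensorProduct.induction_on with
    | zero => rfl
    | add u v hu hv => rw [hu, hv, add_zero]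
    | tmul c q =>
      obtain ⟨w, rfl⟩ := Submodule.mkQ_surjective _ q
      induction w using TensorProduct.induction_on with
      | zero => simp
      | add u v hu hv => rw [map_add, TensorProduct.tmul_add, hu, hv, add_zero]
      | tmul s a =>
        have h1 : ((1 : κ) ⊗ₜ[R] a) - ((algebraMap R κ (Bialgebra.counitAlgHom R A a)) ⊗ₜ[R] (1 : A)) ∈ Iκ := by
          rw [← Ideal.Quotient.eq_zero_iff_mem, map_sub, sub_eq_zero]
          refine (DFunLike.congr_fun hgam a).trans ?_
          show algebraMap R (D ⧸ Iκ) _ = _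
          rfl
        have h2 := hI _ h1
        rw [map_sub, hθ, hθ, sub_eq_zero, ← Algebra.TensorProduct.one_def,
          show π 1 = 0 from (Submodule.Quotient.mk_eq_zero _).2
            (Submodule.mem_sup_right (Submodule.mem_span_singleton_self _)), TensorProduct.tmul_zero] at h2
        rw [show (s ⊗ₜ[R] a : B ⊗[R] A) = s • ((1 : B) ⊗ₜ[R] a) by
          rw [TensorProduct.smul_tmul', smul_eq_mul, mul_one], map_smul, ← TensorProduct.smul_tmul,
          show (s • c : κ) = (s • c : κ) • (1 : κ) by rw [smul_eq_mul, mul_one], ← TensorProduct.smul_tmul',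
          show ((1 : κ) ⊗ₜ[B] π ((1 : B) ⊗ₜ[R] a)) = 0 from h2, smul_zero]
  have hns : (⟨P, inferInstance⟩ : PrimeSpectrum B) ∉ Module.support B Q := by
    rw [Module.mem_support_iff_nontrivial_residueField_tensorProduct]
    exact not_nontrivial_iff_subsingleton.2 hsub
  rw [Module.notMem_support_iff'] at hns
  obtain ⟨t, ht⟩ := (Module.Finite.fg_top : (⊤ : Submodule R A).FG)
  choose r hrP hr using fun a : A => hns (π ((1 : B) ⊗ₜ[R] a))
  refine ⟨∏ a ∈ t, r a, fun hmem => ?_, fun a => ?_⟩
  · obtain ⟨a, -, ha⟩ := (Ideal.IsPrime.prod_mem_iff).1 hmem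
    exact hrP a ha
  · have ha : a ∈ Submodule.span R (t : Set A) := ht ▸ Submodule.mem_top
    induction ha using Submodule.span_induction with
    | mem a ha =>
      obtain ⟨e, he⟩ := Finset.dvd_prod_of_mem r ha
      rw [he, mul_comm, mul_smul]
      refine Submodule.smul_mem _ _ ((Submodule.Quotient.mk_eq_zero _).1 ?_)
      rw [Submodule.Quotient.mk_smul]
      exact hr a
    | zero => simp
    | add u v _ _ hu hv => rw [TensorProduct.tmul_add, smul_add]; exact add_mem hu hv
    | smul s a _ ha =>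
      rw [TensorProduct.tmul_smul, smul_comm, ← algebraMap_smul B s]
      exact Submodule.smul_mem _ _ ha

/-- The norm of the coaction of a function is invariant. -/
theorem nm_coact_mem [Module.Finite R A] (P : Retr R A) (b : B) :
    nm P B (GLin.coactAlgHom R A B b) ∈ GLin.invariants R A B := by
  have key := map_coact_eq_twist (A := A) (AlgHom.id R (B ⊗[R] A)) b
  have h := congrArg (nm P (B ⊗[R] A)) key
  rw [nm_algEquiv, ← nm_map, ← nm_map] at h
  exact h

/-- Where the norm does not vanish, neither does the function. -/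
theorem ne_zero_of_nm_ne_zero [Module.Finite R A] (P : Retr R A) {K : Type u} [Field K] [Algebra R K]
    (x : B →ₐ[R] K) (b : B) (h : x (nm P B (GLin.coactAlgHom R A B b)) ≠ 0) : x b ≠ 0 := by
  rw [nm_map] at h
  let ε : K ⊗[R] A →ₐ[K] K := Algebra.TensorProduct.lift (AlgHom.id K K)
    ((Algebra.ofId R K).comp (Bialgebra.counitAlgHom R A)) fun _ _ => Commute.all _ _
  have hu := (isUnit_of_nm_ne_zero P K h).map ε
  have e : ∀ w : B ⊗[R] A, ε (Algebra.TensorProduct.map x (AlgHom.id R A) w) = x (evUnit w) := by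
    intro w
    induction w using TensorProduct.induction_on with
    | zero => simp
    | add u v hu hv => simp only [map_add, hu, hv]
    | tmul s a =>
      rw [Algebra.TensorProduct.map_tmul, evUnit_tmul, map_mul, AlgHom.commutes]
      show ε (x s ⊗ₜ[R] a) = _
      simp only [ε]
      erw [Algebra.TensorProduct.lift_tmul]
      rfl
  rw [e, evUnit_coact] at hu
  exact hu.ne_zero

/-- Elements killing the defect. -/
def killIdeal : Ideal B where
  carrier := {r | ∀ a : A, r • ((1 : B) ⊗ₜ[R] a) ∈ defect R A B}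
  add_mem' hr hs a := by rw [add_smul]; exact add_mem (hr a) (hs a)
  zero_mem' a := by rw [zero_smul]; exact zero_mem _
  smul_mem' c r hr a := by rw [smul_assoc]; exact Submodule.smul_mem _ _ (hr a)

/-- At a field-valued point with trivial inertia some element killing the defect is non-zero. -/
theorem exists_kill_pt [Module.Finite R A] {L : Type u} [Field L] [Algebra R L] (y : B →ₐ[R] L)
    (hy : Triv (A := A) y) : ∃ r ∈ killIdeal (R := R) (A := A) (B := B), y r ≠ 0 := by
  let P : Ideal B := RingHom.ker y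
  haveI : P.IsPrime := RingHom.ker_isPrime _
  let f : P.ResidueField →+* L :=
    Ideal.ResidueField.lift P y.toRingHom le_rfl fun b hb => isUnit_iff_ne_zero.2 hb
  have hf : ∀ b : B, f (algebraMap B P.ResidueField b) = y b := fun b =>
    Ideal.ResidueField.lift_algebraMap P y.toRingHom _ _ b
  let i : P.ResidueField →ₐ[R] L :=
    { f with
      commutes' := fun r => by
        show f (algebraMap R P.ResidueField r) = _
        rw [IsScalarTower.algebraMap_apply R B P.ResidueField, hf]
        exact y.commutes r }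
  have hi : i.comp (IsScalarTower.toAlgHom R B P.ResidueField) = y := AlgHom.ext hf
  obtain ⟨r, hr, hrJ⟩ := exists_kill (A := A) P (triv_of_comp i (by rw [hi]; exact hy))
  exact ⟨r, hrJ, hr⟩

/-- A translate of a point with trivial inertia. -/
theorem triv_translate {L : Type u} [CommRing L] [Algebra R L] (x : B →ₐ[R] L) (hx : Triv (A := A) x)
    (ψ : L ⊗[R] A →ₐ[L] L) :
    Triv (A := A) ((ψ.restrictScalars R).comp
      ((Algebra.TensorProduct.map x (AlgHom.id R A)).comp (GLin.coactAlgHom R A B))) := by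
  let gam : A →ₐ[R] L := (ψ.restrictScalars R).comp Algebra.TensorProduct.includeRight
  have e : (ψ.restrictScalars R).comp
      ((Algebra.TensorProduct.map x (AlgHom.id R A)).comp (GLin.coactAlgHom R A B)) =
      (Algebra.TensorProduct.lift x gam fun _ _ => .all _ _).comp (GLin.coactAlgHom R A B) := by
    refine AlgHom.ext fun b => ?_
    rw [AlgHom.comp_apply, AlgHom.comp_apply, AlgHom.comp_apply]
    generalize GLin.coactAlgHom R A B b = z
    induction z using TensorProduct.induction_on with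
    | zero => simp
    | add u v hu hv => simp only [map_add, hu, hv]
    | tmul s a =>
      erw [Algebra.TensorProduct.map_tmul, Algebra.TensorProduct.lift_tmul]
      show ψ (x s ⊗ₜ[R] a) = x s * ψ ((1 : L) ⊗ₜ[R] a)
      rw [← smul_eq_mul, ← map_smul, TensorProduct.smul_tmul', smul_eq_mul, mul_one]
  rw [e]
  refine hx.act (pt gam) ?_
  rw [← lift_pt_ract, lift_action_act, lift_ract_ract, mul_inv_cancel, lift_one_ract]

/-- A point with trivial inertia has an invariant neighbourhood where the defect dies. -/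
theorem exists_nhd [Module.Finite R A] [Module.Projective R A] {L : Type u} [Field L] [IsAlgClosed L] [Algebra R L]
    (x : B →ₐ[R] L) (hx : Triv (A := A) x) :
    ∃ n ∈ GLin.invariants R A B, x n ≠ 0 ∧ ∀ (S : Type u) [CommRing S] [Algebra R S] (ξ : B →ₐ[R] S) (gam : A →ₐ[R] S),
      (Algebra.TensorProduct.lift ξ gam fun _ _ => .all _ _).comp (GLin.coactAlgHom R A B) = ξ → IsUnit (ξ n) →
        gam = (Algebra.ofId R S).comp (Bialgebra.counitAlgHom R A) := by
  classical
  obtain ⟨P⟩ := exists_retr (R := R) (A := A)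
  haveI : IsArtinianRing (L ⊗[R] A) := IsArtinianRing.of_finite L _
  haveI : Fintype (MaximalSpectrum (L ⊗[R] A)) := Fintype.ofFinite _
  have hpt : ∀ M : MaximalSpectrum (L ⊗[R] A), ∃ ψ : L ⊗[R] A →ₐ[L] L, ∀ z, z ∈ M.asIdeal → ψ z = 0 := fun M => by
    letI := Ideal.Quotient.field M.asIdeal
    let j : ((L ⊗[R] A) ⧸ M.asIdeal) →ₐ[L] L := IsAlgClosed.lift
    exact ⟨j.comp (Ideal.Quotient.mkₐ L _), fun z hz => by
      show j (Ideal.Quotient.mk _ z) = 0
      rw [Ideal.Quotient.eq_zero_iff_mem.2 hz, map_zero]⟩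
  choose ψ hψ using hpt
  let y : MaximalSpectrum (L ⊗[R] A) → (B →ₐ[R] L) := fun M => ((ψ M).restrictScalars R).comp
    ((Algebra.TensorProduct.map x (AlgHom.id R A)).comp (GLin.coactAlgHom R A B))
  have hJ : ∀ M, ¬ killIdeal (R := R) (A := A) (B := B) ≤ RingHom.ker (y M) := fun M hle => by
    obtain ⟨r, hr, hr0⟩ := exists_kill_pt (y M) (triv_translate x hx (ψ M))
    exact hr0 (hle hr)
  obtain ⟨b, hbJ, hb⟩ : ∃ b ∈ killIdeal (R := R) (A := A) (B := B), ∀ M, y M b ≠ 0 := by
    by_contra hc
    push Not at hc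
    rcases isEmpty_or_nonempty (MaximalSpectrum (L ⊗[R] A)) with he | he
    · obtain ⟨M, -⟩ := hc 0 (zero_mem _)
      exact he.elim M
    · have hsub : (killIdeal (R := R) (A := A) (B := B) : Set B) ⊆
          ⋃ M ∈ (↑(Finset.univ : Finset (MaximalSpectrum (L ⊗[R] A))) : Set _), (RingHom.ker (y M) : Set B) :=
        fun b hb => by
          obtain ⟨M, hM⟩ := hc b hb
          exact Set.mem_biUnion (Finset.mem_coe.2 (Finset.mem_univ M)) hM
      obtain ⟨M₀⟩ := he
      obtain ⟨M, -, hM⟩ := (Ideal.subset_union_prime M₀ M₀ fun M _ _ _ => RingHom.ker_isPrime _).1 hsub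
      exact hJ M hM
  refine ⟨nm P B (GLin.coactAlgHom R A B b), nm_coact_mem P b, ?_, fun S _ _ ξ gam hfix hn => ?_⟩
  · rw [nm_map]
    refine nm_ne_zero_of_isUnit P L ?_
    by_contra hnu
    obtain ⟨M, hM, hzM⟩ := exists_max_ideal_of_mem_nonunits hnu
    exact hb ⟨M, hM⟩ (hψ ⟨M, hM⟩ _ hzM)
  · refine gamma_eq ξ gam hfix b hbJ ?_
    by_contra hnu
    obtain ⟨M, hM, hbM⟩ := exists_max_ideal_of_mem_nonunits hnu
    letI := Ideal.Quotient.field M
    let q : S →ₐ[R] S ⧸ M := Ideal.Quotient.mkₐ R M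
    have h1 : q (ξ b) = 0 := Ideal.Quotient.eq_zero_iff_mem.2 hbM
    exact ne_zero_of_nm_ne_zero P (q.comp ξ) b ((hn.map q).ne_zero) h1

end Free

/-- Morphisms to affine schemes factor through global functions. -/
theorem exists_toGamma (T : Over (Spec (CommRingCat.of R))) :
    ∃ (S : Type u) (_ : CommRing S) (_ : Algebra R S) (τ : T ⟶ sp R S),
      IsIso τ.left.appTop ∧ ∀ (C : Type u) [CommRing C] [Algebra R C] (f : T ⟶ sp R C), ∃ φ : C →ₐ[R] S, f = τ ≫ pt φ := by
  let S := Γ(T.left, ⊤)
  let r : CommRingCat.of R ⟶ S := (Scheme.ΓSpecIso (CommRingCat.of R)).inv ≫ T.hom.appTop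
  letI : Algebra R S := r.hom.toAlgebra
  have hτ : T.left.toSpecΓ ≫ Spec.map r = T.hom := by
    rw [Spec.map_comp, ← Scheme.toSpecΓ_naturality_assoc]
    simp
  let τ : T ⟶ sp R S := Over.homMk T.left.toSpecΓ hτ
  haveI hiso : IsIso τ.left.appTop := by
    show IsIso T.left.toSpecΓ.appTop
    rw [Scheme.toSpecΓ_appTop]
    infer_instance
  refine ⟨S, inferInstance, inferInstance, τ, hiso, fun C _ _ f => ?_⟩
  let e : CommRingCat.of C ⟶ S := (Scheme.ΓSpecIso (CommRingCat.of C)).inv ≫ f.left.appTop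
  have he : T.left.toSpecΓ ≫ Spec.map e = f.left := by
    rw [Spec.map_comp, ← Scheme.toSpecΓ_naturality_assoc]
    show f.left ≫ (Spec (CommRingCat.of C)).toSpecΓ ≫ Spec.map (Scheme.ΓSpecIso (CommRingCat.of C)).inv = f.left
    simp [Category.comp_id]
    try exact Category.comp_id _
  have hc : CommRingCat.ofHom (algebraMap R C) ≫ e = r := by
    apply Spec.map_injective
    refine ext_of_isAffine ?_
    haveI : IsIso T.left.toSpecΓ.appTop := hiso
    rw [← cancel_mono T.left.toSpecΓ.appTop, ← Scheme.Hom.comp_appTop, ← Scheme.Hom.comp_appTop, Spec.map_comp,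
      reassoc_of% he, hτ]
    exact congrArg Scheme.Hom.appTop (Over.w f)
  let φ : C →ₐ[R] S :=
    { e.hom with commutes' := fun c => congrArg (fun χ : CommRingCat.of R ⟶ S => χ.hom c) hc }
  exact ⟨φ, Over.OverMorphism.ext he.symm⟩

theorem eq_of_toGamma {T : Over (Spec (CommRingCat.of R))} {S C : Type u} [CommRing S] [CommRing C] [Algebra R S]
    [Algebra R C] (τ : T ⟶ sp R S) [IsIso τ.left.appTop] {a b : sp R S ⟶ sp R C} (h : τ ≫ a = τ ≫ b) : a = b := by
  haveI : IsAffine (sp R C).left := inferInstanceAs (IsAffine (Spec (CommRingCat.of C)))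
  refine Over.OverMorphism.ext (ext_of_isAffine ?_)
  have h' := congrArg (fun z : T ⟶ sp R C => z.left.appTop) h
  simp only [Over.comp_left, Scheme.Hom.comp_appTop] at h'
  exact (cancel_mono τ.left.appTop).1 h'

/-- Algebraic triviality gives triviality on all test objects. -/
theorem eq_one_of_unit {T : Over (Spec (CommRingCat.of R))} (ζ : T ⟶ sp R B) (g : T ⟶ sp R A) (n : B)
    (hn : ∀ (S : Type u) [CommRing S] [Algebra R S] (ξ : B →ₐ[R] S) (gam : A →ₐ[R] S),
      (Algebra.TensorProduct.lift ξ gam fun _ _ => .all _ _).comp (GLin.coactAlgHom R A B) = ξ → IsUnit (ξ n) →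
        gam = (Algebra.ofId R S).comp (Bialgebra.counitAlgHom R A))
    (hu : IsUnit (ζ.left.appTop ((Scheme.ΓSpecIso (CommRingCat.of B)).inv n)))
    (hg : lift g ζ ≫ (action R A B).act = ζ) : g = 1 := by
  obtain ⟨S, _, _, τ, hτ, hfac⟩ := exists_toGamma T
  haveI := hτ
  obtain ⟨ξ, rfl⟩ := hfac B ζ
  obtain ⟨gam, hgam⟩ := hfac A g⁻¹
  rw [lift_action_act, hgam, ← comp_lift_assoc, lift_pt_ract] at hg
  have h2 := hn S ξ gam (pt_injective (eq_of_toGamma τ hg)) (by
    have e : (τ ≫ pt ξ).left.appTop ((Scheme.ΓSpecIso (CommRingCat.of B)).inv n) =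
        τ.left.appTop ((Scheme.ΓSpecIso (CommRingCat.of S)).inv (ξ n)) := by
      rw [Over.comp_left, Scheme.Hom.comp_appTop, ConcreteCategory.comp_apply, pt_left]
      congr 1
      exact congrArg (fun χ : CommRingCat.of B ⟶ Γ(Spec (CommRingCat.of S), ⊤) => χ n)
        (Scheme.ΓSpecIso_inv_naturality (CommRingCat.ofHom ξ.toRingHom)).symm
    rw [e] at hu
    have h4 := (hu.map (inv τ.left.appTop).hom).map (Scheme.ΓSpecIso (CommRingCat.of S)).hom.hom
    simp [← ConcreteCategory.comp_apply] at h4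
    exact (congrArg IsUnit ((Scheme.ΓSpecIso (CommRingCat.of S)).inv_hom_id_apply (ξ n))).mp h4)
  rw [h2, ← one_eq_pt, MonObj.comp_one, inv_eq_one] at hgam
  exact hgam

/-- Two fields over a ring with the same kernel sit in a common algebraically closed field. -/
theorem exists_common {C K₁ K₂ : Type u} [CommRing C] [Field K₁] [Field K₂] (f₁ : C →+* K₁) (f₂ : C →+* K₂)
    (h : RingHom.ker f₁ = RingHom.ker f₂) :
    ∃ (L : Type u) (_ : Field L) (_ : IsAlgClosed L) (i₁ : K₁ →+* L) (i₂ : K₂ →+* L), i₁.comp f₁ = i₂.comp f₂ := by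
  letI := f₁.toAlgebra
  letI := f₂.toAlgebra
  haveI : Nontrivial (K₁ ⊗[C] K₂) := by
    obtain ⟨z, -, -⟩ := Scheme.Pullback.exists_preimage_pullback
      (f := Spec.map (CommRingCat.ofHom (algebraMap C K₁))) (g := Spec.map (CommRingCat.ofHom (algebraMap C K₂)))
      (IsLocalRing.closedPoint K₁) (IsLocalRing.closedPoint K₂) (PrimeSpectrum.ext (by
        show Ideal.comap f₁ (IsLocalRing.maximalIdeal K₁) = Ideal.comap f₂ (IsLocalRing.maximalIdeal K₂)
        rw [IsLocalRing.maximalIdeal_eq_bot, IsLocalRing.maximalIdeal_eq_bot]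
        exact h))
    exact PrimeSpectrum.nonempty_iff_nontrivial.1 ⟨(pullbackSpecIso C K₁ K₂).hom z⟩
  obtain ⟨M, hM⟩ := Ideal.exists_maximal (K₁ ⊗[C] K₂)
  letI := Ideal.Quotient.field M
  let L := AlgebraicClosure ((K₁ ⊗[C] K₂) ⧸ M)
  let ρ : K₁ ⊗[C] K₂ →+* L := (algebraMap _ L).comp (Ideal.Quotient.mk M)
  refine ⟨L, inferInstance, inferInstance, ρ.comp Algebra.TensorProduct.includeLeftRingHom,
    ρ.comp (Algebra.TensorProduct.includeRight (R := C) (A := K₁) (B := K₂)).toRingHom, RingHom.ext fun c => ?_⟩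
  simp only [RingHom.comp_apply]
  exact congrArg ρ (((Algebra.TensorProduct.includeLeft : K₁ →ₐ[C] K₁ ⊗[C] K₂).commutes c).trans
    ((Algebra.TensorProduct.includeRight : K₂ →ₐ[C] K₁ ⊗[C] K₂).commutes c).symm)

end Groth.Agent.FinOrbit
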