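import Groth.Agent.DynLib.Basic
import Mathlib

/-!
# Norms along a finite projective algebra
-/

set_option autoImplicit false
set_option linter.style.haveILetI false
set_option maxHeartbeats 800000

universe u

open TensorProduct WithConv

noncomputable section

namespace Groth.Agent.FinOrbit

variable {R A : Type u} [CommRing R] [CommRing A] [Algebra R A]

/-- A presentation of `A` as a retract of a free module. -/
structure Retr (R A : Type u) [CommRing R] [CommRing A] [Algebra R A] where
  n : ℕ
  f : (Fin n → R) →ₗ[R] A
  g : A →ₗ[R] (Fin n → R)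
  fg : f.comp g = LinearMap.id

theorem exists_retr [Module.Finite R A] [Module.Projective R A] : Nonempty (Retr R A) := by
  obtain ⟨n, f, g, -, -, h⟩ := Module.Finite.exists_comp_eq_id_of_projective R A
  exact ⟨⟨n, f, g, h⟩⟩

variable (P : Retr R A)

/-- Coordinates. -/
def sMap (S : Type u) [CommRing S] [Algebra R S] : S ⊗[R] A →ₗ[S] (Fin P.n → S) :=
  (TensorProduct.piScalarRight R S S (Fin P.n)).toLinearMap.comp (P.g.baseChange S)

/-- The retraction. -/
def rMap (S : Type u) [CommRing S] [Algebra R S] : (Fin P.n → S) →ₗ[S] S ⊗[R] A :=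
  (P.f.baseChange S).comp (TensorProduct.piScalarRight R S S (Fin P.n)).symm.toLinearMap

theorem r_s (S : Type u) [CommRing S] [Algebra R S] : (rMap P S).comp (sMap P S) = LinearMap.id := by
  refine LinearMap.ext fun w => ?_
  show P.f.baseChange S ((TensorProduct.piScalarRight R S S (Fin P.n)).symm
    (TensorProduct.piScalarRight R S S (Fin P.n) (P.g.baseChange S w))) = w
  rw [LinearEquiv.symm_apply_apply]
  have h : (P.f.baseChange S).comp (P.g.baseChange S) = LinearMap.id := by
    rw [← LinearMap.baseChange_comp, P.fg, LinearMap.baseChange_id]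
  exact LinearMap.congr_fun h w

variable (S : Type u) [CommRing S] [Algebra R S]

/-- Extension by the identity to the free module. -/
def ext' : Module.End S (S ⊗[R] A) →* Module.End S (Fin P.n → S) where
  toFun a := 1 + (sMap P S).comp ((a - 1).comp (rMap P S))
  map_one' := by simp
  map_mul' a b := by
    have h : ∀ w, rMap P S (sMap P S w) = w := fun w => LinearMap.congr_fun (r_s P S) w
    refine LinearMap.ext fun v => ?_
    simp only [Module.End.mul_apply, LinearMap.add_apply, LinearMap.comp_apply, LinearMap.sub_apply,
      Module.End.one_apply, map_add, map_sub, h]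
    abel

/-- The norm. -/
def nm (z : S ⊗[R] A) : S := LinearMap.det (ext' P S (Algebra.lmul S (S ⊗[R] A) z))

theorem nm_mul (z w : S ⊗[R] A) : nm P S (z * w) = nm P S z * nm P S w := by
  simp only [nm, map_mul]

theorem nm_one : nm P S (1 : S ⊗[R] A) = 1 := by simp only [nm, map_one]

/-- The norm is invariant under automorphisms. -/
theorem nm_algEquiv (σ : (S ⊗[R] A) ≃ₐ[S] (S ⊗[R] A)) (z : S ⊗[R] A) : nm P S (σ z) = nm P S z := by
  have e : Algebra.lmul S (S ⊗[R] A) (σ z) =
      (σ.toLinearMap : Module.End S (S ⊗[R] A)) * Algebra.lmul S (S ⊗[R] A) z * σ.symm.toLinearMap := by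
    refine LinearMap.ext fun w => ?_
    simp only [Module.End.mul_apply]
    show σ z * w = σ (z * σ.symm w)
    rw [map_mul, AlgEquiv.apply_symm_apply]
  have e' : (σ.toLinearMap : Module.End S (S ⊗[R] A)) * σ.symm.toLinearMap = 1 :=
    LinearMap.ext fun w => σ.apply_symm_apply w
  simp only [nm]
  rw [e, map_mul, map_mul, map_mul, map_mul, mul_right_comm, ← map_mul LinearMap.det]
  erw [← map_mul (ext' P S), e']
  rw [map_one, map_one, one_mul]

/-- The norm commutes with change of ring. -/
theorem nm_map {S' : Type u} [CommRing S'] [Algebra R S'] (φ : S →ₐ[R] S') (z : S ⊗[R] A) :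
    φ (nm P S z) = nm P S' (Algebra.TensorProduct.map φ (AlgHom.id R A) z) := by
  classical
  simp only [nm]
  rw [← LinearMap.det_toMatrix', ← LinearMap.det_toMatrix', ← AlgHom.coe_toRingHom, RingHom.map_det]
  congr 1
  refine Matrix.ext fun i j => ?_
  have hs : ∀ w, sMap P S' (Algebra.TensorProduct.map φ (AlgHom.id R A) w) i = φ (sMap P S w i) := by
    intro w
    induction w using TensorProduct.induction_on with
    | zero => simp
    | tmul a b => simp [sMap]
    | add u v hu hv => simp only [map_add, Pi.add_apply, hu, hv]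
  have hp : ∀ (T : Type u) [CommRing T], (Pi.single j (1 : T) : Fin P.n → T) = fun l => if l = j then 1 else 0 :=
    fun T _ => funext fun l => Pi.single_apply j 1 l
  have hr : rMap P S' (fun l => if l = j then 1 else 0) =
      Algebra.TensorProduct.map φ (AlgHom.id R A) (rMap P S (fun l => if l = j then 1 else 0)) := by
    have e : ∀ (T : Type u) [CommRing T] [Algebra R T], rMap P T (fun l => if l = j then 1 else 0) =
        (1 : T) ⊗ₜ[R] P.f (fun l => if l = j then 1 else 0) := by
      intro T _ _
      show P.f.baseChange T _ = _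
      have h2 : (TensorProduct.piScalarRight R T T (Fin P.n)).symm (fun l => if l = j then 1 else 0) =
          (1 : T) ⊗ₜ[R] (fun l => if l = j then (1 : R) else 0) := by
        rw [LinearEquiv.symm_apply_eq]
        funext l
        by_cases hl : l = j <;> simp [hl]
      show P.f.baseChange T ((TensorProduct.piScalarRight R T T (Fin P.n)).symm _) = _
      rw [h2, LinearMap.baseChange_tmul]
    rw [e, e, Algebra.TensorProduct.map_tmul, map_one]
    rfl
  simp only [RingHom.mapMatrix_apply, Matrix.map_apply]
  rw [LinearMap.toMatrix'_apply, LinearMap.toMatrix'_apply]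
  simp only [ext', MonoidHom.coe_mk, ← Pi.single_apply,
    OneHom.coe_mk, LinearMap.add_apply, LinearMap.comp_apply, LinearMap.sub_apply, Module.End.one_apply,
    Pi.add_apply, AlgHom.coe_toRingHom, map_add]
  have key : φ (sMap P S (z * rMap P S (Pi.single j 1)) i) - φ (sMap P S (rMap P S (Pi.single j 1)) i) =
      sMap P S' (Algebra.TensorProduct.map φ (AlgHom.id R A) z * rMap P S' (Pi.single j 1)) i -
        sMap P S' (rMap P S' (Pi.single j 1)) i := by
    simp only [hp S, hp S', hr, ← map_mul, hs]
  have e : φ ((Pi.single j (1 : S) : Fin P.n → S) i) = (Pi.single j (1 : S') : Fin P.n → S') i := by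
    by_cases h : i = j <;> simp [h]
  simp only [map_sub, Pi.sub_apply]
  rw [e]
  first
    | exact congrArg _ key
    | (congr 1; convert key using 5)

section Field

variable (L : Type u) [Field L] [Algebra R L] [Module.Finite R A]

theorem isUnit_of_nm_ne_zero {z : L ⊗[R] A} (h : nm P L z ≠ 0) : IsUnit z := by
  have hinj : Function.Injective (Algebra.lmul L (L ⊗[R] A) z) := by
    rw [injective_iff_map_eq_zero]
    intro w hw
    have hM : ext' P L (Algebra.lmul L (L ⊗[R] A) z) (sMap P L w) = sMap P L (Algebra.lmul L (L ⊗[R] A) z w) := by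
      have h1 : rMap P L (sMap P L w) = w := LinearMap.congr_fun (r_s P L) w
      simp only [ext', MonoidHom.coe_mk, OneHom.coe_mk, LinearMap.add_apply, LinearMap.comp_apply, h1,
        LinearMap.sub_apply, Module.End.one_apply, map_sub]
      abel
    rw [hw, map_zero] at hM
    have h2 := (LinearMap.ker_eq_bot.1 (by
      by_contra hne
      exact h ((LinearMap.det_eq_zero_iff_ker_ne_bot).2 hne))) (hM.trans (map_zero _).symm)
    have h3 := LinearMap.congr_fun (r_s P L) w
    rw [LinearMap.comp_apply, h2, map_zero] at h3
    exact h3.symm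
  obtain ⟨w, hw⟩ := LinearMap.injective_iff_surjective.1 hinj 1
  exact IsUnit.of_mul_eq_one _ hw

theorem nm_ne_zero_of_isUnit {z : L ⊗[R] A} (h : IsUnit z) : nm P L z ≠ 0 := by
  obtain ⟨w, hw⟩ := h.exists_right_inv
  intro h0
  have := nm_mul P L z w
  rw [hw, nm_one, h0, zero_mul] at this
  exact one_ne_zero this

end Field

end Groth.Agent.FinOrbit
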