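import Groth.Agent.FinOrbitLib.Norm
import Groth.Prelude.Def_GLin
import Groth.Prelude.Def_HopfRep

/-!
# Points with the same invariants lie in one orbit of a finite locally free group
-/

set_option autoImplicit false
set_option linter.style.haveILetI false
set_option maxHeartbeats 1000000

universe u

open TensorProduct WithConv HopfRep

noncomputable section

namespace Groth.Agent.FinOrbit

attribute [local instance] Groth.Agent.DynLib.pointsGroup

variable {R A B : Type u} [CommRing R] [CommRing A] [HopfAlgebra R A] [CommRing B] [Algebra R B]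

section Twist

variable {S : Type u} [CommRing S] [Algebra R S]

/-- The translation along a point. -/
def twistHom (i : WithConv (A →ₐ[R] S)) : S ⊗[R] A →ₐ[S] S ⊗[R] A :=
  Algebra.TensorProduct.lift (Algebra.ofId S _)
    (toConv ((Algebra.TensorProduct.includeLeft : S →ₐ[R] S ⊗[R] A).comp i.ofConv) *
      toConv (Algebra.TensorProduct.includeRight : A →ₐ[R] S ⊗[R] A)).ofConv (fun _ _ => Commute.all _ _)

theorem twistHom_tmul (i : WithConv (A →ₐ[R] S)) (s : S) (a : A) :
    twistHom i (s ⊗ₜ[R] a) = (s ⊗ₜ[R] (1 : A)) *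
      (toConv ((Algebra.TensorProduct.includeLeft : S →ₐ[R] S ⊗[R] A).comp i.ofConv) *
        toConv (Algebra.TensorProduct.includeRight : A →ₐ[R] S ⊗[R] A)).ofConv a := by
  rw [twistHom, Algebra.TensorProduct.lift_tmul]
  rfl

/-- Post-composition as a homomorphism. -/
def postHom {T : Type u} [CommRing T] [Algebra R T] (h : S →ₐ[R] T) :
    WithConv (A →ₐ[R] S) →* WithConv (A →ₐ[R] T) :=
  MonoidHom.mk' (fun g => toConv (h.comp g.ofConv)) fun g g' => by rw [AlgHom.comp_convMul_distrib]

theorem twistHom_comp (i i' : WithConv (A →ₐ[R] S)) (z : S ⊗[R] A) :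
    twistHom i' (twistHom i z) = twistHom (i * i') z := by
  induction z using TensorProduct.induction_on with
  | zero => simp
  | add u v hu hv => simp only [map_add, hu, hv]
  | tmul s a =>
    let J := postHom (A := A) (Algebra.TensorProduct.includeLeft : S →ₐ[R] S ⊗[R] A)
    let j : WithConv (A →ₐ[R] S ⊗[R] A) := toConv Algebra.TensorProduct.includeRight
    let T' : S ⊗[R] A →ₐ[R] S ⊗[R] A := (twistHom i').restrictScalars R
    have e : T'.comp (J i * j).ofConv = (J (i * i') * j).ofConv := by
      rw [AlgHom.comp_convMul_distrib]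
      have e1 : T'.comp (J i).ofConv = (J i).ofConv := AlgHom.ext fun c => by
        show twistHom i' ((i.ofConv c) ⊗ₜ[R] (1 : A)) = _
        rw [twistHom_tmul, map_one, mul_one]
        rfl
      have e2 : T'.comp j.ofConv = (J i' * j).ofConv := AlgHom.ext fun c => by
        show twistHom i' ((1 : S) ⊗ₜ[R] c) = _
        rw [twistHom_tmul, ← Algebra.TensorProduct.one_def, one_mul]
        rfl
      rw [e1, e2, toConv_ofConv, toConv_ofConv, map_mul, _root_.mul_assoc]
    rw [twistHom_tmul, twistHom_tmul, map_mul, twistHom_tmul, map_one, mul_one]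
    exact congrArg ((s ⊗ₜ[R] (1 : A)) * ·) (DFunLike.congr_fun e a)

theorem twistHom_one (z : S ⊗[R] A) : twistHom (1 : WithConv (A →ₐ[R] S)) z = z := by
  induction z using TensorProduct.induction_on with
  | zero => simp
  | add u v hu hv => simp only [map_add, hu, hv]
  | tmul s a =>
    let J := postHom (A := A) (Algebra.TensorProduct.includeLeft : S →ₐ[R] S ⊗[R] A)
    rw [twistHom_tmul]
    show (s ⊗ₜ[R] (1 : A)) * (J 1 * toConv (Algebra.TensorProduct.includeRight : A →ₐ[R] S ⊗[R] A)).ofConv a = _
    rw [map_one, one_mul]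
    simp

/-- The translation as an automorphism. -/
def twist (i : WithConv (A →ₐ[R] S)) : (S ⊗[R] A) ≃ₐ[S] (S ⊗[R] A) :=
  AlgEquiv.ofAlgHom (twistHom i) (twistHom i⁻¹)
    (AlgHom.ext fun z => by rw [AlgHom.comp_apply, twistHom_comp, inv_mul_cancel, twistHom_one]; rfl)
    (AlgHom.ext fun z => by rw [AlgHom.comp_apply, twistHom_comp, mul_inv_cancel, twistHom_one]; rfl)

theorem twist_apply (i : WithConv (A →ₐ[R] S)) (z : S ⊗[R] A) : twist i z = twistHom i z := rfl

end Twist

section Coact

variable [Comod R A B] [GLin.IsCoactAlg R A B]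

/-- The coaction read in a `B ⊗ A`-algebra. -/
theorem map_coact_eq_twist {S : Type u} [CommRing S] [Algebra R S] (ι : B ⊗[R] A →ₐ[R] S) (b : B) :
    Algebra.TensorProduct.map (ι.comp (GLin.coactAlgHom R A B)) (AlgHom.id R A) (GLin.coactAlgHom R A B b) =
      twist (toConv (ι.comp Algebra.TensorProduct.includeRight))
        (Algebra.TensorProduct.map (ι.comp Algebra.TensorProduct.includeLeft) (AlgHom.id R A)
          (GLin.coactAlgHom R A B b)) := by
  have hc := LinearMap.congr_fun (Comod.coassoc (k := R) (A := A) (V := B)) b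
  simp only [LinearMap.comp_apply, LinearEquiv.coe_coe] at hc
  let Θ : B ⊗[R] (A ⊗[R] A) →ₗ[R] S ⊗[R] A :=
    (TensorProduct.map ι.toLinearMap LinearMap.id).comp (TensorProduct.assoc R B A A).symm.toLinearMap
  have h1 : ∀ z : B ⊗[R] A, Algebra.TensorProduct.map (ι.comp (GLin.coactAlgHom R A B)) (AlgHom.id R A) z =
      Θ (TensorProduct.assoc R B A A ((Comod.coact (k := R) (A := A)).rTensor A z)) := by
    intro z
    simp only [Θ, LinearMap.comp_apply, LinearEquiv.coe_coe, LinearEquiv.symm_apply_apply]
    induction z using TensorProduct.induction_on with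
    | zero => simp
    | add u v hu hv => simp only [map_add, hu, hv]
    | tmul x c => simp
  have h2 : ∀ z : B ⊗[R] A, twist (toConv (ι.comp Algebra.TensorProduct.includeRight))
      (Algebra.TensorProduct.map (ι.comp Algebra.TensorProduct.includeLeft) (AlgHom.id R A) z) =
      Θ ((CoalgebraStruct.comul (R := R) (A := A)).lTensor B z) := by
    intro z
    induction z using TensorProduct.induction_on with
    | zero => simp
    | add u v hu hv => simp only [map_add, hu, hv]
    | tmul x c =>
      rw [twist_apply]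
      rw [Algebra.TensorProduct.map_tmul, twistHom_tmul, LinearMap.lTensor_tmul, AlgHom.convMul_apply]
      have key : ∀ t : A ⊗[R] A, (ι (x ⊗ₜ[R] (1 : A)) ⊗ₜ[R] (1 : A)) * Algebra.TensorProduct.lift
          ((Algebra.TensorProduct.includeLeft : S →ₐ[R] S ⊗[R] A).comp (ι.comp Algebra.TensorProduct.includeRight))
          (Algebra.TensorProduct.includeRight : A →ₐ[R] S ⊗[R] A) (fun _ _ => Commute.all _ _) t = Θ (x ⊗ₜ[R] t) := by
        intro t
        induction t using TensorProduct.induction_on with
        | zero => simp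
        | add u v hu hv => simp only [map_add, tmul_add, mul_add, hu, hv]
        | tmul a a' =>
          simp [Θ, Algebra.TensorProduct.tmul_mul_tmul, ← map_mul]
      exact key _
  rw [h2, h1, GLin.coactAlgHom_apply, hc]

end Coact

section Orbit

variable [Comod R A B] [GLin.IsCoactAlg R A B] [Module.Finite R A] [Module.Projective R A]

/-- The element `Σ Xⱼ ρ(bⱼ)`. -/
def generic {J : Type} [Fintype J] (b : J → B) : MvPolynomial J B ⊗[R] A :=
  ∑ j, (MvPolynomial.X j ⊗ₜ[R] (1 : A)) *
    Algebra.TensorProduct.map (IsScalarTower.toAlgHom R B (MvPolynomial J B)) (AlgHom.id R A) (GLin.coactAlgHom R A B (b j))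

/-- The norms have invariant coefficients. -/
theorem coeff_nm_mem (P : Retr R A) {J : Type} [Fintype J] (b : J → B) (m : J →₀ ℕ) :
    (nm P (MvPolynomial J B) (generic b)).coeff m ∈ GLin.invariants R A B := by
  let S := MvPolynomial J (B ⊗[R] A)
  let ι : B ⊗[R] A →ₐ[R] S := IsScalarTower.toAlgHom R (B ⊗[R] A) S
  let α : MvPolynomial J B →ₐ[R] S := MvPolynomial.mapAlgHom (GLin.coactAlgHom R A B)
  let β : MvPolynomial J B →ₐ[R] S :=
    MvPolynomial.mapAlgHom (Algebra.TensorProduct.includeLeft : B →ₐ[R] B ⊗[R] A)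
  let σ := twist (toConv (ι.comp Algebra.TensorProduct.includeRight))
  have hα : α.comp (IsScalarTower.toAlgHom R B (MvPolynomial J B)) = ι.comp (GLin.coactAlgHom R A B) :=
    AlgHom.ext fun x => MvPolynomial.map_C _ _
  have hβ : β.comp (IsScalarTower.toAlgHom R B (MvPolynomial J B)) = ι.comp Algebra.TensorProduct.includeLeft :=
    AlgHom.ext fun x => MvPolynomial.map_C _ _
  have hX : ∀ j, σ ((MvPolynomial.X j : S) ⊗ₜ[R] (1 : A)) = (MvPolynomial.X j : S) ⊗ₜ[R] (1 : A) := fun j => by
    rw [twist_apply]
    rw [twistHom_tmul, map_one, mul_one]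
  have key : Algebra.TensorProduct.map α (AlgHom.id R A) (generic b) =
      σ (Algebra.TensorProduct.map β (AlgHom.id R A) (generic b)) := by
    simp only [generic, map_sum, map_mul, Algebra.TensorProduct.map_tmul, AlgHom.coe_id, id_eq]
    refine Finset.sum_congr rfl fun j _ => ?_
    have hj : α (MvPolynomial.X j) = MvPolynomial.X j := MvPolynomial.map_X _ _
    have hj' : β (MvPolynomial.X j) = MvPolynomial.X j := MvPolynomial.map_X _ _
    rw [hj, hj', hX]
    congr 1
    have e : ∀ (φ : MvPolynomial J B →ₐ[R] S) (z : B ⊗[R] A), Algebra.TensorProduct.map φ (AlgHom.id R A)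
        (Algebra.TensorProduct.map (IsScalarTower.toAlgHom R B (MvPolynomial J B)) (AlgHom.id R A) z) =
        Algebra.TensorProduct.map (φ.comp (IsScalarTower.toAlgHom R B (MvPolynomial J B))) (AlgHom.id R A) z := by
      intro φ z
      rw [← AlgHom.comp_apply, ← Algebra.TensorProduct.map_comp, AlgHom.comp_id]
    rw [e, e, hα, hβ]
    exact map_coact_eq_twist ι (b j)
  have h := congrArg (nm P S) key
  rw [nm_algEquiv, ← nm_map, ← nm_map] at h
  have h' := congrArg (MvPolynomial.coeff m) h
  simp only [α, β, MvPolynomial.mapAlgHom_apply, MvPolynomial.coeff_map] at h'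
  exact h'

/-- Two points with the same invariants differ by a point of the group. -/
theorem exists_translate (L : Type u) [Field L] [IsAlgClosed L] [Algebra R L] (x₁ x₂ : B →ₐ[R] L)
    (h : ∀ c ∈ GLin.invariants R A B, x₁ c = x₂ c) :
    ∃ g : A →ₐ[R] L, x₂ = (Algebra.TensorProduct.lift x₁ g fun _ _ => .all _ _).comp (GLin.coactAlgHom R A B) := by
  classical
  obtain ⟨P⟩ := exists_retr (R := R) (A := A)
  by_contra hne
  push Not at hne
  let D := L ⊗[R] A
  haveI : IsArtinianRing D := IsArtinianRing.of_finite L D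
  haveI : Fintype (MaximalSpectrum D) := Fintype.ofFinite _
  -- the points of the group
  have hpt : ∀ M : MaximalSpectrum D, ∃ ψ : D →ₐ[L] L, ∀ z, z ∈ M.asIdeal → ψ z = 0 := fun M => by
    letI := Ideal.Quotient.field M.asIdeal
    let j : (D ⧸ M.asIdeal) →ₐ[L] L := IsAlgClosed.lift
    exact ⟨j.comp (Ideal.Quotient.mkₐ L _), fun z hz => by
      show j (Ideal.Quotient.mk _ z) = 0
      rw [Ideal.Quotient.eq_zero_iff_mem.2 hz, map_zero]⟩
  choose ψ hψ using hpt
  let e := Fintype.equivFin (MaximalSpectrum D)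
  let m := Fintype.card (MaximalSpectrum D)
  let θ : (B →ₐ[R] L) → (B →ₐ[R] D) := fun x =>
    (Algebra.TensorProduct.map x (AlgHom.id R A)).comp (GLin.coactAlgHom R A B)
  let y : Fin m → (B →ₐ[R] L) := fun i => ((ψ (e.symm i)).restrictScalars R).comp (θ x₁)
  have hy : ∀ i, ∃ b : B, y i b ≠ x₂ b := fun i => by
    by_contra hcon
    push Not at hcon
    refine hne (((ψ (e.symm i)).restrictScalars R).comp Algebra.TensorProduct.includeRight) (AlgHom.ext fun b => ?_)
    rw [← hcon b]
    show ψ (e.symm i) (Algebra.TensorProduct.map x₁ (AlgHom.id R A) (GLin.coactAlgHom R A B b)) = _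
    rw [AlgHom.comp_apply]
    generalize GLin.coactAlgHom R A B b = z
    induction z using TensorProduct.induction_on with
    | zero => simp
    | add u v hu hv => simp only [map_add, hu, hv]
    | tmul s a =>
      rw [Algebra.TensorProduct.map_tmul, Algebra.TensorProduct.lift_tmul]
      show ψ (e.symm i) (x₁ s ⊗ₜ[R] a) = x₁ s * ψ (e.symm i) ((1 : L) ⊗ₜ[R] a)
      rw [← smul_eq_mul, ← map_smul, TensorProduct.smul_tmul', smul_eq_mul, mul_one]
  choose bb hbb using hy
  -- a good coefficient
  let W : Fin m → Polynomial L := fun i => ∑ l : Fin m, Polynomial.monomial (l : ℕ) (y i (bb l) - x₂ (bb l))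
  have hW : ∀ i, W i ≠ 0 := fun i h0 => by
    have h1 := congrArg (fun p => Polynomial.coeff p (i : ℕ)) h0
    simp only [W, Polynomial.finsetSum_coeff, Polynomial.coeff_monomial, Polynomial.coeff_zero] at h1
    rw [Finset.sum_eq_single i (fun l _ hl => if_neg (fun hh => hl (Fin.ext hh))) (fun hh => absurd (Finset.mem_univ i) hh),
      if_pos rfl, sub_eq_zero] at h1
    exact hbb i h1
  haveI : Infinite L := IsAlgClosed.instInfinite
  obtain ⟨t, ht⟩ : ∃ t : L, (∏ i, W i).eval t ≠ 0 := by
    by_contra hc
    push Not at hc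
    exact Finset.prod_ne_zero_iff.2 (fun i _ => hW i) (Polynomial.funext fun r => by rw [hc r, Polynomial.eval_zero])
  rw [Polynomial.eval_prod, Finset.prod_ne_zero_iff] at ht
  let b : Option (Fin m) → B := fun o => o.elim 1 bb
  let c : Option (Fin m) → L := fun o => o.elim (-∑ l : Fin m, t ^ (l : ℕ) * x₂ (bb l)) fun l => t ^ (l : ℕ)
  let N := nm P (MvPolynomial (Option (Fin m)) B) (generic b)
  let ev : (B →ₐ[R] L) → (MvPolynomial (Option (Fin m)) B →ₐ[R] L) := fun x => MvPolynomial.aevalTower x c
  have hN : ev x₁ N = ev x₂ N := by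
    rw [N.as_sum, map_sum, map_sum]
    refine Finset.sum_congr rfl fun d _ => ?_
    simp only [ev, MvPolynomial.monomial_eq, map_mul, MvPolynomial.aevalTower_C, map_finsuppProd, map_pow,
      MvPolynomial.aevalTower_X]
    rw [h _ (coeff_nm_mem P b d)]
  let z : (B →ₐ[R] L) → D := fun x => ∑ o, (c o ⊗ₜ[R] (1 : A)) * θ x (b o)
  have hz : ∀ x, ev x N = nm P L (z x) := fun x => by
    show ev x (nm P _ (generic b)) = _
    rw [nm_map]
    congr 1
    simp only [z, generic, map_sum, map_mul, Algebra.TensorProduct.map_tmul, AlgHom.coe_id, id_eq, ev,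
      MvPolynomial.aevalTower_X]
    refine Finset.sum_congr rfl fun o _ => congrArg _ ?_
    rw [← AlgHom.comp_apply, ← Algebra.TensorProduct.map_comp, AlgHom.comp_id]
    have hC : (MvPolynomial.aevalTower x c).comp (IsScalarTower.toAlgHom R B (MvPolynomial (Option (Fin m)) B)) = x :=
      AlgHom.ext fun s => MvPolynomial.aevalTower_C _ _ _
    rw [hC]
    rfl
  -- at `x₂` it vanishes
  let ε : D →ₐ[L] L := Algebra.TensorProduct.lift (AlgHom.id L L)
    ((Algebra.ofId R L).comp (Bialgebra.counitAlgHom R A)) fun _ _ => Commute.all _ _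
  have hε : ∀ x s, ε (θ x s) = x s := by
    intro x s
    have hu := LinearMap.congr_fun (Comod.counit_comp (k := R) (A := A) (V := B)) s
    simp only [LinearMap.comp_apply] at hu
    let q : B ⊗[R] R →ₐ[R] L := Algebra.TensorProduct.lift x (Algebra.ofId R L) fun _ _ => Commute.all _ _
    have e1 : ∀ w : B ⊗[R] A, ε (Algebra.TensorProduct.map x (AlgHom.id R A) w) =
        q ((CoalgebraStruct.counit (R := R) (A := A)).lTensor B w) := by
      intro w
      induction w using TensorProduct.induction_on with
      | zero => simp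
      | add u v hu hv => simp only [map_add, hu, hv]
      | tmul s a =>
        simp [q]
        show ε (x s ⊗ₜ[R] a) = _
        simp only [ε]
        erw [Algebra.TensorProduct.lift_tmul]
        rfl
    show ε (Algebra.TensorProduct.map x (AlgHom.id R A) (GLin.coactAlgHom R A B s)) = _
    rw [e1, GLin.coactAlgHom_apply, hu]
    simp [q]
  have hscal : ∀ (φ : D →ₐ[L] L) (s : L), φ (s ⊗ₜ[R] (1 : A)) = s := fun φ s => φ.commutes s
  have h2 : nm P L (z x₂) = 0 := by
    by_contra hne0
    have hu := (isUnit_of_nm_ne_zero P L hne0).map ε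
    rw [map_sum] at hu
    simp only [map_mul, hscal, hε] at hu
    rw [Fintype.sum_option] at hu
    simp [b, c] at hu
  have h1 : IsUnit (z x₁) := by
    by_contra hnu
    obtain ⟨M, hM, hzM⟩ := exists_max_ideal_of_mem_nonunits hnu
    have h0 := hψ ⟨M, hM⟩ _ hzM
    refine ht (e ⟨M, hM⟩) (Finset.mem_univ _) ?_
    have hyv : ∀ s, ψ ⟨M, hM⟩ (θ x₁ s) = y (e ⟨M, hM⟩) s := fun s => by
      show _ = ψ (e.symm (e ⟨M, hM⟩)) (θ x₁ s)
      rw [e.symm_apply_apply]
    rw [map_sum] at h0
    simp only [map_mul, hscal, hyv] at h0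
    rw [Fintype.sum_option] at h0
    simp only [b, c, Option.elim_none, Option.elim_some, map_one, mul_one] at h0
    simp only [W, Polynomial.eval_finset_sum, Polynomial.eval_monomial]
    rw [← h0, ← Finset.sum_neg_distrib, ← Finset.sum_add_distrib]
    exact Finset.sum_congr rfl fun l _ => by ring
  refine nm_ne_zero_of_isUnit P L h1 ?_
  rw [← hz, hN, hz, h2]

end Orbit

end Groth.Agent.FinOrbit
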